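import Mathlib
import Groth.Agent.W7Cube.Group
import Groth.Agent.TMul.Pullback
import Groth.Agent.TMul.AmpleBasis
import Groth.Agent.AmpleDesc.Basic
import Groth.Agent.YBlowUp.Basic
import Groth.Agent.CurveRR.Point
import Groth.Agent.S0346

/-!
On an abelian variety the inverse image sheaf of a section with affine nonempty generating locus is ample.
-/

set_option autoImplicit false
set_option backward.isDefEq.respectTransparency false
set_option backward.isDefEq.respectTransparency.types false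
set_option maxHeartbeats 1000000
set_option linter.style.haveILetI false

universe u

open CategoryTheory CategoryTheory.Limits MonoidalCategory CartesianMonoidalCategory MonObj GrpObj AlgebraicGeometry
open TopologicalSpace

noncomputable section

namespace Groth.Agent.AVAmple

section Section

open Opposite TMul
open Groth.Agent.QC (res resO res_res res_self res_smul resO_resO resO_self app_res)

variable {X : Scheme.{u}}

/-- the canonical section of the inverse of an ideal -/
theorem exists_section {L : X.Modules} (hL : PicF.IsInvertible L) (I : X.IdealSheafData)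
    (hLI : ClSub.IsInverseOf L (ClSub.idealMod I)) (U : X.Opens) (hU : (I.support : Set X) = (U : Set X)ᶜ) :
    ∃ s : Coh.structureModule X ⟶ L, CohB1.genLocus L s = U := by
  obtain ⟨e⟩ := hLI
  let t : Coh.structureModule X ⟶ CohB1.tensorMod (ClSub.idealMod I) L :=
    𝟙 _ ≫ (e.symm ≪≫ TMul.commIso _ _).hom
  have htop : CohB1.genLocus _ t = ⊤ :=
    (TMul.genLocus_comp (𝟙 (Coh.structureModule X)) (e.symm ≪≫ TMul.commIso _ _).hom).trans YBlowUp.genLocus_id
  have hu : IsGen (val t ⊤) := by
    have := TMul.isGen_genLocus t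
    rwa [htop] at this
  refine ⟨t ≫ CurveRR.idealIncl I L, TopologicalSpace.Opens.ext (Set.ext fun x => ?_)⟩
  obtain ⟨D, g, hxD, hg⟩ := TMul.exists_isGen hL x
  obtain ⟨W, hW, hxW, hWD⟩ := exists_isAffineOpen_mem_and_subset hxD
  obtain ⟨a, ha⟩ := (TMul.tm_bijective (M := ClSub.idealMod I) (hg.res hWD) W le_rfl).2 (val t W)
  change tm a (res L le_rfl (res L hWD g)) = _ at ha
  rw [res_self] at ha
  have hc : val (t ≫ CurveRR.idealIncl I L) W =
      HSMul.hSMul (α := Γ(X, W)) ((ClSub.idealModι I).app W a) (res L hWD g) := by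
    rw [TMul.val_comp, ← ha, CurveRR.idealIncl_tm]
  have hspan : I.ideal ⟨W, hW⟩ = Ideal.span {(show Γ(X, W) from (ClSub.idealModι I).app W a)} := by
    refine le_antisymm (fun f hf => ?_)
      ((Ideal.span_singleton_le_iff_mem _).2 ((Groth.Agent.QC.mem_range_idealModι_affine I ⟨W, hW⟩ _).mp ⟨a, rfl⟩))
    obtain ⟨m, rfl⟩ := (Groth.Agent.QC.mem_range_idealModι_affine I ⟨W, hW⟩ f).mpr hf
    obtain ⟨r, hr⟩ := (hu W le_top).2 (tm m (res L hWD g))
    have hra : m = r • a := (TMul.tm_bijective (M := ClSub.idealMod I) (hg.res hWD) W le_rfl).1 (by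
      show tm m (res L le_rfl (res L hWD g)) = tm (r • a) (res L le_rfl (res L hWD g))
      rw [res_self, smul_tm, ha]
      exact hr.symm.trans (congrArg (r • ·) (TMul.res_val t le_top)))
    rw [hra]
    refine Ideal.mem_span_singleton'.2 ⟨r, ?_⟩
    exact (TMul.app_smul (ClSub.idealModι I) r a).symm
  have h1 := TMul.mem_genLocus_iff_isUnit _ (hg.res hWD) hc hxW
  have h2 : x ∈ (I.support : Set X) ↔ x ∉ X.basicOpen (show Γ(X, W) from (ClSub.idealModι I).app W a) := by
    show x ∈ I.support ↔ _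
    rw [Scheme.IdealSheafData.mem_support_iff_of_mem (U := ⟨W, hW⟩) hxW, hspan, Scheme.zeroLocus_span,
      Scheme.mem_zeroLocus_iff]
    simp
  rw [SetLike.mem_coe, h1, ← X.mem_basicOpen _ x hxW]
  rw [hU, Set.mem_compl_iff] at h2
  exact (not_iff_not.1 h2).symm

end Section

section Closed

attribute [local instance] W7Cube.law

variable {k : Type u} [Field k] (A : Over (Spec (CommRingCat.of k))) [GrpObj A] [IsProper A.hom]
  [GeometricallyIntegral A.hom]

open W7Cube in
theorem isAmple_algClosed [IsAlgClosed k] {L : A.left.Modules} (hL : PicF.IsInvertible L)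
    (s : Coh.structureModule A.left ⟶ L) (hne : (CohB1.genLocus L s : Set A.left).Nonempty)
    (haff : IsAffineOpen (CohB1.genLocus L s)) : CohB1.IsAmple L := by
  haveI : Subsingleton (Spec (CommRingCat.of k)) := inferInstanceAs (Subsingleton (PrimeSpectrum k))
  haveI : IsIntegral A.left := GeometricallyIntegral.isIntegral_of_subsingleton A.hom
  haveI : CompactSpace A.left := QuasiCompact.compactSpace_of_compactSpace A.hom
  haveI : A.left.IsSeparated := ⟨by
    rw [show Limits.terminal.from A.left = A.hom ≫ Limits.terminal.from _ from Limits.terminal.hom_ext _ _]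
    infer_instance⟩
  haveI : JacobsonSpace A.left := LocallyOfFiniteType.jacobsonSpace A.hom
  refine ⟨hL, inferInstance, fun x => ?_⟩
  obtain ⟨y, hyx, hyc⟩ := nonempty_inter_closedPoints (Z := closure {x}) ⟨x, subset_closure rfl⟩
    isClosed_closure.isLocallyClosed
  have hpt : ∀ z : A.left, IsClosed ({z} : Set A.left) → ∃ p : 𝟙_ (Over (Spec (CommRingCat.of k))) ⟶ A,
      p.left (IsLocalRing.closedPoint k) = z := fun z hz =>
    ⟨Over.homMk _ ((pointEquivClosedPoint A.hom).symm ⟨z, hz⟩).2,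
      congrArg Subtype.val ((pointEquivClosedPoint A.hom).apply_symm_apply ⟨z, hz⟩)⟩
  obtain ⟨p, hp⟩ := hpt y hyc
  set U := CohB1.genLocus L s with hUdef
  let pc' : A ⟶ A := toUnit A ≫ p
  let lp : A ⟶ A := pc' * 𝟙 A
  let lm : A ⟶ A := pc' * (𝟙 A)⁻¹
  have hc : ∀ {Z : Over (Spec (CommRingCat.of k))} (f : Z ⟶ A), f ≫ pc' = toUnit Z ≫ p := fun f => by
    simp only [pc', ← Category.assoc, comp_toUnit]
  have hlp : (pc'⁻¹ * 𝟙 A) ≫ lp = 𝟙 A := by
    rw [MonObj.comp_mul, hc, Category.comp_id, mul_inv_cancel_left]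
  have hlm : ((𝟙 A)⁻¹ * pc') ≫ lm = 𝟙 A := by
    rw [MonObj.comp_mul, GrpObj.comp_inv, hc, Category.comp_id, _root_.mul_inv_rev, _root_.inv_inv, mul_inv_cancel_left]
  obtain ⟨q, hq⟩ := hne
  have hne1 : (lp.left ⁻¹' (U : Set A.left)).Nonempty := ⟨(pc'⁻¹ * 𝟙 A).left q, by
    rw [Set.mem_preimage, ← Scheme.Hom.comp_apply, ← Over.comp_left, hlp]; exact hq⟩
  have hne2 : (lm.left ⁻¹' (U : Set A.left)).Nonempty := ⟨((𝟙 A)⁻¹ * pc').left q, by
    rw [Set.mem_preimage, ← Scheme.Hom.comp_apply, ← Over.comp_left, hlm]; exact hq⟩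
  obtain ⟨z, hz⟩ := nonempty_preirreducible_inter (U.2.preimage lp.left.continuous)
    (U.2.preimage lm.left.continuous) hne1 hne2
  obtain ⟨w, hw, hwc⟩ := nonempty_inter_closedPoints ⟨z, hz⟩
    ((U.2.preimage lp.left.continuous).inter (U.2.preimage lm.left.continuous)).isLocallyClosed
  obtain ⟨a, ha⟩ := hpt w hwc
  let a' : A ⟶ A := toUnit A ≫ a
  let ra : A ≅ A := ⟨𝟙 A * a', 𝟙 A * a'⁻¹,
    by simp [MonObj.comp_mul, GrpObj.comp_inv, a', ← Category.assoc, _root_.mul_assoc],
    by simp [MonObj.comp_mul, GrpObj.comp_inv, a', ← Category.assoc, _root_.mul_assoc]⟩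
  have h1 : p ≫ ra.hom = a ≫ lp := by
    simp [ra, lp, pc', a', MonObj.comp_mul, ← Category.assoc, toUnit_unique (toUnit _) (𝟙 _)]
  have h2 : p ≫ ra.inv = a ≫ lm := by
    simp [ra, lm, pc', a', MonObj.comp_mul, GrpObj.comp_inv, ← Category.assoc, toUnit_unique (toUnit _) (𝟙 _)]
  have hy1 : ra.hom.left y ∈ U := by
    rw [← hp, ← Scheme.Hom.comp_apply, ← Over.comp_left, h1, Over.comp_left, Scheme.Hom.comp_apply, ha]
    exact hw.1
  have hy2 : ra.inv.left y ∈ U := by
    rw [← hp, ← Scheme.Hom.comp_apply, ← Over.comp_left, h2, Over.comp_left, Scheme.Hom.comp_apply, ha]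
    exact hw.2
  -- the square
  have hL1 := PicLoc.isInvertible_pullback ra.hom.left hL
  have hL2 := PicLoc.isInvertible_pullback ra.inv.left hL
  obtain ⟨φ⟩ : Nonempty (CohB1.tensorMod ((Scheme.Modules.pullback ra.hom.left).obj L)
      ((Scheme.Modules.pullback ra.inv.left).obj L) ≅ CohB1.tensorPow L 2) := by
    have h := cube_rel (PicGrp.cls L hL) (𝟙 A) a' a'⁻¹
    rw [mul_inv_cancel_right, mul_inv_cancel, pc_one, _root_.mul_one, pc_id,
      show a'⁻¹ = toUnit A ≫ a⁻¹ by simp [a', GrpObj.comp_inv], pc_const, pc_const, _root_.mul_one,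
      _root_.mul_one] at h
    have h' : PicGrp.cls _ hL1 * PicGrp.cls _ hL2 = PicGrp.cls L hL ^ 2 := by
      rw [pow_two, h, ← pull_cls, ← pull_cls, show toUnit A ≫ a⁻¹ = a'⁻¹ by simp [a', GrpObj.comp_inv]]
      rfl
    refine (PicGrp.cl_eq_cl_iff _ _).1 ?_
    have h3 := congrArg Subtype.val h'
    rw [PicGrp.mul_val, PicGrp.cls_pow_val] at h3
    exact h3
  let e₁ := (PicLoc.pullbackStructureIso ra.hom.left).symm
  let e₂ := (PicLoc.pullbackStructureIso ra.inv.left).symm
  let σ := SecTwist.tmulHom (e₁.hom ≫ (Scheme.Modules.pullback ra.hom.left).map s)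
    (e₂.hom ≫ (Scheme.Modules.pullback ra.inv.left).map s) ≫ φ.hom
  have hloc : CohB1.genLocus (CohB1.tensorPow L 2) σ = ra.hom.left ⁻¹ᵁ U ⊓ ra.inv.left ⁻¹ᵁ U := by
    rw [show CohB1.genLocus (CohB1.tensorPow L 2) σ = _ from TMul.genLocus_comp _ φ.hom,
      TMul.genLocus_tmulHom hL1 hL2, TMul.genLocus_pullback _ hL s e₁, TMul.genLocus_pullback _ hL s e₂]
  refine ⟨1, σ, ?_, ?_⟩
  · have hy : y ∈ CohB1.genLocus (CohB1.tensorPow L 2) σ := hloc ▸ ⟨hy1, hy2⟩
    exact (specializes_iff_mem_closure.2 hyx).mem_open (Opens.isOpen _) hy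
  · rw [show CohB1.genLocus (CohB1.tensorPow L (1 + 1)) σ = _ from hloc]
    haveI : IsIso ra.hom := Iso.isIso_hom ra
    haveI : IsIso ra.inv := Iso.isIso_inv ra
    haveI : IsIso ra.hom.left := (inferInstance : IsIso ((Over.forget _).map ra.hom))
    haveI : IsIso ra.inv.left := (inferInstance : IsIso ((Over.forget _).map ra.inv))
    exact (haff.preimage ra.hom.left).inf (haff.preimage ra.inv.left)

/-- ampleness over any field -/
theorem isAmple {L : A.left.Modules} (hL : PicF.IsInvertible L)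
    (s : Coh.structureModule A.left ⟶ L) (hne : (CohB1.genLocus L s : Set A.left).Nonempty)
    (haff : IsAffineOpen (CohB1.genLocus L s)) : CohB1.IsAmple L := by
  let g : Spec (CommRingCat.of (AlgebraicClosure k)) ⟶ Spec (CommRingCat.of k) :=
    Spec.map (CommRingCat.ofHom (algebraMap k (AlgebraicClosure k)))
  haveI : Flat g := inferInstance
  haveI : Surjective g := ⟨fun x => ⟨IsLocalRing.closedPoint _, Subsingleton.elim (α := PrimeSpectrum k) _ _⟩⟩
  haveI : GrpObj (Over.mk A.hom) := inferInstanceAs (GrpObj A)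
  letI : GrpObj (Over.mk (pullback.snd A.hom g)) := Over.grpObjMkPullbackSnd
  let A' : Over (Spec (CommRingCat.of (AlgebraicClosure k))) := Over.mk (pullback.snd A.hom g)
  haveI : IsProper A'.hom := inferInstanceAs (IsProper (pullback.snd A.hom g))
  haveI : GeometricallyIntegral A'.hom := inferInstanceAs (GeometricallyIntegral (pullback.snd A.hom g))
  let q : A'.left ⟶ A.left := pullback.fst A.hom g
  haveI : IsAffineHom g := inferInstance
  haveI : IsAffineHom q := MorphismProperty.pullback_fst A.hom g inferInstance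
  haveI : Surjective q := inferInstanceAs (Surjective (pullback.fst A.hom g))
  have hloc := TMul.genLocus_pullback q hL s (PicLoc.pullbackStructureIso q).symm
  refine AmpleDesc.isAmple_of_pullback (IsPullback.of_hasPullback A.hom g) hL ?_
  refine isAmple_algClosed A' (PicLoc.isInvertible_pullback q hL)
    ((PicLoc.pullbackStructureIso q).symm.hom ≫ (Scheme.Modules.pullback q).map s) ?_ ?_
  · rw [hloc]
    obtain ⟨x, hx⟩ := hne
    obtain ⟨x', rfl⟩ := q.surjective x
    exact ⟨x', hx⟩
  · rw [hloc]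
    exact haff.preimage q

end Closed

end Groth.Agent.AVAmple
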