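import Groth.Agent.AVAmple.Basic
import Groth.Agent.AVAmple.FiniteStab
import Groth.Agent.RZExt.Consequences

/-!
A divisor whose components are fixed by finitely many translations gives an ample class.
-/

set_option autoImplicit false
set_option backward.isDefEq.respectTransparency false
set_option backward.isDefEq.respectTransparency.types false
set_option maxHeartbeats 1000000
set_option linter.style.haveILetI false

universe u

open CategoryTheory CategoryTheory.Limits MonoidalCategory CartesianMonoidalCategory MonObj GrpObj AlgebraicGeometry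
open TopologicalSpace

noncomputable section

namespace Groth.Agent.AVAmple

attribute [local instance] W7Cube.law

theorem exists_component {X : Type u} [TopologicalSpace X] {D S : Set X} (hS : IsIrreducible S) (hSD : S ⊆ D) :
    ∃ Z ∈ irreducibleComponents D, S ⊆ Subtype.val '' Z := by
  have h : IsIrreducible (Subtype.val ⁻¹' S : Set D) := by
    obtain ⟨x₀, hx₀⟩ := hS.nonempty
    refine ⟨⟨⟨x₀, hSD hx₀⟩, hx₀⟩, ?_⟩
    rintro u v ⟨u', hu', rfl⟩ ⟨v', hv', rfl⟩ ⟨x, hx, hxu⟩ ⟨y, hy, hyv⟩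
    obtain ⟨z, hz, hzu, hzv⟩ := hS.2 u' v' hu' hv' ⟨x, hx, hxu⟩ ⟨y, hy, hyv⟩
    exact ⟨⟨z, hSD hz⟩, hz, hzu, hzv⟩
  obtain ⟨Z, hZ, hsub⟩ := exists_mem_irreducibleComponents_subset_of_isIrreducible _ h
  exact ⟨Z, hZ, fun x hx => ⟨⟨x, hSD hx⟩, hsub (show (⟨x, hSD hx⟩ : D).1 ∈ S from hx), rfl⟩⟩

variable {k : Type u} [Field k] {A : Over (Spec (CommRingCat.of k))} [GrpObj A] [IsProper A.hom]
  [GeometricallyIntegral A.hom]

open W7Cube in
theorem isAmple_of_finite_components [IsAlgClosed k] (I : A.left.IdealSheafData) (hI : BlowUp.IsEffCartierIdeal I)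
    {L : A.left.Modules} (hL : PicF.IsInvertible L) (hLI : ClSub.IsInverseOf L (ClSub.idealMod I))
    (hb : Set.Finite {a : (𝟙_ (Over (Spec (CommRingCat.of k)))) ⟶ A |
      ∀ Z ∈ irreducibleComponents ↥(I.support : Set ↥A.left),
        (fun x : ↥A.left => (𝟙 A * (toUnit A ≫ a)).left.base x) '' (Subtype.val '' Z) = Subtype.val '' Z}) :
    CohB1.IsAmple L := by
  haveI : Subsingleton (Spec (CommRingCat.of k)) := inferInstanceAs (Subsingleton (PrimeSpectrum k))
  haveI : IsIntegral A.left := GeometricallyIntegral.isIntegral_of_subsingleton A.hom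
  haveI : IsLocallyNoetherian A.left := LocallyOfFiniteType.isLocallyNoetherian A.hom
  haveI : CompactSpace A.left := QuasiCompact.compactSpace_of_compactSpace A.hom
  haveI : AlgebraicGeometry.IsNoetherian A.left := {}
  haveI : JacobsonSpace A.left := LocallyOfFiniteType.jacobsonSpace A.hom
  haveI hcomm := isCommMonObj_of_isProper_of_geometricallyIntegral A
  obtain ⟨s, hU⟩ := exists_section hL I hLI I.support.compl (compl_compl _).symm
  have hne : (CohB1.genLocus L s : Set A.left).Nonempty := by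
    rw [hU]; exact (RZExt.dense_awayFrom hI).nonempty
  have hs : s ≠ 0 := fun h0 => by
    rw [h0, TMul.genLocus_zero] at hne
    exact hne.ne_empty rfl
  refine isAmple_of_curves hL s hs _ hb fun W' w _ _ _ _ hdim htriv b b' => ?_
  letI : W'.left.Over (Spec (CommRingCat.of k)) := ⟨W'.hom⟩
  haveI : IsProper (W'.left ↘ Spec (CommRingCat.of k)) := inferInstanceAs (IsProper W'.hom)
  -- a translate of the curve meeting the divisor lies in it
  have hin : ∀ (a : 𝟙_ (Over (Spec (CommRingCat.of k))) ⟶ A) (y z : W'.left),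
      (w ≫ (𝟙 A * (toUnit A ≫ a))).left y ∈ (I.support : Set A.left) →
      (w ≫ (𝟙 A * (toUnit A ≫ a))).left z ∈ (I.support : Set A.left) := by
    intro a y z hy
    by_contra hz
    let g := (w ≫ (𝟙 A * (toUnit A ≫ a))).left
    let t := (PicLoc.pullbackStructureIso g).symm.hom ≫ (Scheme.Modules.pullback g).map s
    have hg : PicGrp.cls _ (PicLoc.isInvertible_pullback g hL) = 1 := (pull_cls g L hL).symm.trans (htriv a)
    obtain ⟨e⟩ := (PicGrp.cls_eq_one_iff (hL := PicLoc.isInvertible_pullback g hL)).1 hg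
    have ht : CohB1.genLocus _ (t ≫ e.hom) = g ⁻¹ᵁ CohB1.genLocus L s :=
      (TMul.genLocus_comp _ _).trans (TMul.genLocus_pullback g hL s _)
    have hyt : y ∉ CohB1.genLocus _ (t ≫ e.hom) := fun h => by
      have h2 : g y ∈ CohB1.genLocus L s := ht.le h
      rw [hU] at h2
      exact h2 hy
    have ht0 : t ≫ e.hom ≠ 0 := fun h0 => by
      have h : z ∈ CohB1.genLocus _ (t ≫ e.hom) := by
        rw [ht]; show g z ∈ CohB1.genLocus L s; rw [hU]; exact hz
      rw [h0, TMul.genLocus_zero] at h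
      exact h.elim
    have := CurveRR.Easy.deg_pos_of_vanishing (k := k) (X := W'.left) hdim.le TMul.isInvertible_structureModule
      (t ≫ e.hom) ht0 hyt
    rw [CurveRR.deg_structure] at this
    exact lt_irrefl _ this
  haveI : JacobsonSpace W'.left := LocallyOfFiniteType.jacobsonSpace W'.hom
  have key : ∀ b b' : 𝟙_ (Over (Spec (CommRingCat.of k))) ⟶ W', ∀ Z ∈ irreducibleComponents ↥(I.support : Set A.left),
      (fun x : A.left => (𝟙 A * (toUnit A ≫ ((b' ≫ w)⁻¹ * (b ≫ w)))).left x) '' (Subtype.val '' Z) ⊆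
        Subtype.val '' Z := by
    intro b b' Z hZ
    set Z' : Set A.left := Subtype.val '' Z
    have hcl : ∀ Y ∈ irreducibleComponents ↥(I.support : Set A.left), IsClosed (Subtype.val '' Y) := fun Y hY =>
      I.support.isClosed.isClosedMap_subtype_val _ (isClosed_of_mem_irreducibleComponents Y hY)
    have hirr : IsIrreducible Z' := hZ.1.image _ continuous_subtype_val.continuousOn
    have hZD : Z' ⊆ I.support := fun x ⟨⟨_, hd⟩, _, e⟩ => e ▸ hd
    let P := {z : 𝟙_ (Over (Spec (CommRingCat.of k))) ⟶ A // z.left (IsLocalRing.closedPoint k) ∈ Z'}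
    let φ : P → (W' ⟶ A) := fun z => w ≫ (𝟙 A * (toUnit A ≫ ((b' ≫ w)⁻¹ * z.1)))
    have hφ : ∀ (c : 𝟙_ (Over (Spec (CommRingCat.of k))) ⟶ W') (z : P),
        c ≫ φ z = z.1 ≫ (𝟙 A * (toUnit A ≫ ((b' ≫ w)⁻¹ * (c ≫ w)))) := fun c z => by
      simp only [φ, MonObj.comp_mul, ← Category.assoc, Category.comp_id, toUnit_unique (_ ≫ toUnit A) (𝟙 _),
        Category.id_comp]
      ac_rfl
    have hb'z : ∀ z : P, b' ≫ φ z = z.1 := fun z => by
      rw [hφ, inv_mul_cancel, MonObj.comp_one, _root_.mul_one, Category.comp_id]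
    let T : Set ↥(I.support : Set A.left) → Set W'.left := fun Y => ⋂ z : P, (φ z).left ⁻¹' (Subtype.val '' Y)
    have hT : ∀ Y ∈ irreducibleComponents ↥(I.support : Set A.left), IsClosed (T Y) := fun Y hY =>
      isClosed_iInter fun z => (hcl Y hY).preimage (φ z).left.continuous
    haveI : NoetherianSpace ↥(I.support : Set A.left) := Topology.IsInducing.subtypeVal.noetherianSpace
    have hfin := NoetherianSpace.finite_irreducibleComponents (α := ↥(I.support : Set A.left))
    have hcover : (⋃ Y ∈ irreducibleComponents ↥(I.support : Set A.left), T Y) = Set.univ := by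
      rw [← (hfin.isClosed_biUnion hT).closure_eq]
      refine Set.univ_subset_iff.1 (closure_closedPoints (X := W'.left) ▸ closure_mono fun y hy => ?_)
      obtain ⟨c, rfl⟩ : ∃ c : 𝟙_ (Over (Spec (CommRingCat.of k))) ⟶ W', c.left (IsLocalRing.closedPoint k) = y :=
        ⟨Over.homMk _ ((pointEquivClosedPoint W'.hom).symm ⟨y, hy⟩).2,
          congrArg Subtype.val ((pointEquivClosedPoint W'.hom).apply_symm_apply ⟨y, hy⟩)⟩
      let f := (𝟙 A * (toUnit A ≫ ((b' ≫ w)⁻¹ * (c ≫ w)))).left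
      have hfD : Z' ⊆ f ⁻¹' (I.support : Set A.left) := by
        intro x hx
        by_contra hxD
        obtain ⟨y, ⟨hy1, hy2⟩, hyc⟩ := nonempty_inter_closedPoints (Z := Z' ∩ (f ⁻¹' (I.support : Set A.left))ᶜ)
          ⟨x, hx, hxD⟩ ((hcl Z hZ).isLocallyClosed.inter
            (I.support.isClosed.preimage f.continuous).isOpen_compl.isLocallyClosed)
        obtain ⟨z, rfl⟩ := exists_point (A := A) hyc
        refine hy2 ?_
        have h := hin ((b' ≫ w)⁻¹ * z) (b'.left (IsLocalRing.closedPoint k)) (c.left (IsLocalRing.closedPoint k))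
          (show (b' ≫ φ ⟨z, hy1⟩).left (IsLocalRing.closedPoint k) ∈ (I.support : Set A.left) from
            (hb'z ⟨z, hy1⟩).symm ▸ hZD hy1)
        exact show (z ≫ (𝟙 A * (toUnit A ≫ ((b' ≫ w)⁻¹ * (c ≫ w))))).left (IsLocalRing.closedPoint k) ∈
          (I.support : Set A.left) from hφ c ⟨z, hy1⟩ ▸ h
      obtain ⟨Y, hY, hsub⟩ := exists_component (hirr.image f f.continuous.continuousOn) (Set.image_subset_iff.2 hfD)
      refine Set.mem_biUnion hY (Set.mem_iInter.2 fun z => ?_)
      show (c ≫ φ z).left (IsLocalRing.closedPoint k) ∈ Subtype.val '' Y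
      rw [hφ]
      exact hsub ⟨_, z.2, rfl⟩
    obtain ⟨Y, hY, huniv⟩ : ∃ Y ∈ irreducibleComponents ↥(I.support : Set A.left), Set.univ ⊆ T Y := by
      obtain ⟨V, hV, hsub⟩ := isIrreducible_iff_sUnion_isClosed.1 (IrreducibleSpace.isIrreducible_univ W'.left)
        (hfin.image T).toFinset (fun V hV => by
          obtain ⟨Y, hY, rfl⟩ := (hfin.image T).mem_toFinset.1 hV; exact hT Y hY)
        (by rw [Set.Finite.coe_toFinset, Set.sUnion_image, hcover])
      obtain ⟨Y, hY, rfl⟩ := (hfin.image T).mem_toFinset.1 hV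
      exact ⟨Y, hY, hsub⟩
    have hmemY : ∀ (c : 𝟙_ (Over (Spec (CommRingCat.of k))) ⟶ W') (z : P),
        (c ≫ φ z).left (IsLocalRing.closedPoint k) ∈ Subtype.val '' Y := fun c z =>
      Set.mem_iInter.1 (huniv (Set.mem_univ (c.left (IsLocalRing.closedPoint k)))) z
    have hext : ∀ (S : Set A.left), IsClosed S → (∀ z : P, z.1.left (IsLocalRing.closedPoint k) ∈ S) → Z' ⊆ S := by
      intro S hS h x hx
      by_contra hxS
      obtain ⟨y, ⟨hy1, hy2⟩, hyc⟩ := nonempty_inter_closedPoints (Z := Z' ∩ Sᶜ) ⟨x, hx, hxS⟩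
        ((hcl Z hZ).isLocallyClosed.inter hS.isOpen_compl.isLocallyClosed)
      obtain ⟨z, rfl⟩ := exists_point (A := A) hyc
      exact hy2 (h ⟨z, hy1⟩)
    have hZY : Z = Y := by
      refine (hZ.eq_of_le hY.1 fun x hx => ?_)
      have := hext _ (hcl Y hY) (fun z => hb'z z ▸ hmemY b' z) (Set.mem_image_of_mem Subtype.val hx)
      exact Subtype.val_injective.mem_set_image.1 this
    rw [Set.image_subset_iff]
    refine hext _ ((hcl Z hZ).preimage (𝟙 A * (toUnit A ≫ _)).left.continuous) fun z => ?_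
    have := hmemY b z
    rwa [hφ, ← hZY] at this
  intro Z hZ
  refine Set.Subset.antisymm (key b b' Z hZ) fun x hx => ?_
  refine ⟨(𝟙 A * (toUnit A ≫ ((b ≫ w)⁻¹ * (b' ≫ w)))).left x, key b' b Z hZ ⟨x, hx, rfl⟩, ?_⟩
  simp only [← Scheme.Hom.comp_apply, ← Over.comp_left]
  rw [show (𝟙 A * (toUnit A ≫ ((b ≫ w)⁻¹ * (b' ≫ w)))) ≫ (𝟙 A * (toUnit A ≫ ((b' ≫ w)⁻¹ * (b ≫ w)))) = 𝟙 A by
    simp only [MonObj.comp_mul, GrpObj.comp_inv, Category.comp_id, ← Category.assoc, comp_toUnit]
    group]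
  rfl

end Groth.Agent.AVAmple
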