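import Groth.Agent.W7Cube.Group
import Groth.Prelude.Def_ThetaK

/-!
The Mumford bundle restricted along points, in the Picard group.
-/

set_option autoImplicit false
set_option backward.isDefEq.respectTransparency false
set_option backward.isDefEq.respectTransparency.types false
set_option linter.style.haveILetI false

universe u

open CategoryTheory CategoryTheory.Limits MonoidalCategory CartesianMonoidalCategory MonObj GrpObj AlgebraicGeometry

noncomputable section

namespace Groth.Agent.AVAmple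

open W7Cube

attribute [local instance] W7Cube.law

variable {k : Type u} [Field k] {A : Over (Spec (CommRingCat.of k))} [GrpObj A]
  {T : Over (Spec (CommRingCat.of k))}

/-- the Mumford class along `z` -/
def mum (c : PicLoc.PicSet A.left) (z : T ⟶ A) : PicLoc.PicSet (A ⊗ T).left :=
  pc c (fst A T * (snd A T ≫ z)) * (pc c (fst A T) * pc c (snd A T ≫ z))⁻¹

theorem isLambda_iff (L : A.left.Modules) (hL : PicF.IsInvertible L) (z : T ⟶ A) (N : (A ⊗ T).left.Modules)
    (hN : PicF.IsInvertible N) :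
    AgPol.IsLambdaSheaf ((A ◁ z) ≫ μ[A]).left (fst A T).left (snd A T ≫ z).left L N ↔
      mum (PicGrp.cls L hL) z = PicGrp.cls N hN := by
  have hm : (A ◁ z) ≫ μ[A] = fst A T * (snd A T ≫ z) := by
    rw [Hom.mul_def]
    congr 1
  rw [mum, mul_inv_eq_iff_eq_mul, pc, pc, pc, pull_cls, pull_cls, pull_cls, ← _root_.mul_assoc, AgPol.IsLambdaSheaf,
    ← PicGrp.cl_eq_cl_iff, hm, Subtype.ext_iff, PicGrp.mul_val]
  rw [Subtype.ext_iff.1 (rfl : PicGrp.cls N hN * PicGrp.cls _ (PicLoc.isInvertible_pullback (fst A T).left hL) = _),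
    PicGrp.mul_val]
  exact eq_comm

theorem isMumfordTriv_iff (L : A.left.Modules) (hL : PicF.IsInvertible L) (z : T ⟶ A) :
    ThetaGrp.IsMumfordTriv A L z ↔ ∃ d, mum (PicGrp.cls L hL) z = pull (snd A T).left d := by
  constructor
  · rintro ⟨M, hM, h⟩
    refine ⟨PicGrp.cls M hM, ?_⟩
    rw [pull_cls]
    exact (isLambda_iff L hL z _ (PicLoc.isInvertible_pullback _ hM)).1 h
  · rintro ⟨d, hd⟩
    obtain ⟨M, hM, rfl⟩ := PicGrp.exists_eq_cls d
    rw [pull_cls] at hd
    exact ⟨M, hM, (isLambda_iff L hL z _ (PicLoc.isInvertible_pullback _ hM)).2 hd⟩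

theorem mum_eq_one_of_pullback (c : PicLoc.PicSet A.left) (z : T ⟶ A) (d : PicLoc.PicSet T.left)
    (h : mum c z = pull (snd A T).left d) : mum c z = 1 := by
  have h' := congrArg (pull (lift (toUnit T ≫ η[A]) (𝟙 T)).left) h
  rw [mum, map_mul, map_inv, map_mul, pull_pc, pull_pc, pull_pc, MonObj.comp_mul, lift_fst, lift_snd_assoc,
    Category.id_comp, ← Hom.one_def, _root_.one_mul, pc_one, _root_.one_mul, mul_inv_cancel, pull_pull,
    ← Over.comp_left, lift_snd, Over.id_left] at h'
  rw [h, (show d = 1 from ((PicGrp.pullHom_id_apply _ d).symm.trans h'.symm)), map_one]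

theorem mum_one (c : PicLoc.PicSet A.left) : mum c (1 : T ⟶ A) = 1 := by
  rw [mum, MonObj.comp_one, _root_.mul_one, pc_one, _root_.mul_one, mul_inv_cancel]

theorem mum_mul [IsProper A.hom] [GeometricallyIntegral A.hom] (c : PicLoc.PicSet A.left) (x y : T ⟶ A) :
    mum c (x * y) = mum c x * mum c y := by
  have h := cube_rel c (fst A T) (snd A T ≫ x) (snd A T ≫ y)
  simp only [mum, MonObj.comp_mul, ← _root_.mul_assoc] at h ⊢
  generalize pc c (fst A T * (snd A T ≫ x) * (snd A T ≫ y)) = P at h ⊢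
  generalize pc c ((snd A T ≫ x) * (snd A T ≫ y)) = Q at h ⊢
  generalize pc c (fst A T * (snd A T ≫ x)) = R at h ⊢
  generalize pc c (fst A T * (snd A T ≫ y)) = R' at h ⊢
  generalize pc c (fst A T) = a at h ⊢
  generalize pc c (snd A T ≫ x) = b at h ⊢
  generalize pc c (snd A T ≫ y) = b' at h ⊢
  rw [show P = R * R' * Q * (a * b * b')⁻¹ by rw [← h]; apply Additive.ofMul.injective; simp only [ofMul_mul, ofMul_inv]; abel]
  apply Additive.ofMul.injective
  simp only [ofMul_mul, ofMul_inv]
  abel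

theorem mum_inv [IsProper A.hom] [GeometricallyIntegral A.hom] (c : PicLoc.PicSet A.left) (x : T ⟶ A) :
    mum c x⁻¹ = (mum c x)⁻¹ := eq_inv_of_mul_eq_one_left (by rw [← mum_mul, inv_mul_cancel, mum_one])

end Groth.Agent.AVAmple
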