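import Groth.Agent.AVAmple.Basic
import Groth.Agent.S1551
import Groth.Agent.GrpField.AbelianField
import Groth.Agent.ClosedRep.GeomIntegral
import Groth.Agent.Rigid.FibreTranslate
import Groth.Agent.S4272
import Groth.Agent.UFDLib.Regular
import Groth.Agent.SmLocalST.SmoothField

/-!
The theorem of the square and its consequences.
-/

set_option autoImplicit false
set_option backward.isDefEq.respectTransparency false
set_option backward.isDefEq.respectTransparency.types false
set_option maxHeartbeats 1000000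
set_option linter.style.haveILetI false

universe u

open CategoryTheory CategoryTheory.Limits MonoidalCategory CartesianMonoidalCategory MonObj GrpObj AlgebraicGeometry
open TopologicalSpace

noncomputable section

namespace Groth.Agent.AVAmple

attribute [local instance] W7Cube.law

variable {k : Type u} [Field k] (A : Over (Spec (CommRingCat.of k))) [GrpObj A] [IsProper A.hom]
  [GeometricallyIntegral A.hom]

/-- the class of a translate times the class of the inverse translate -/
theorem square (L : A.left.Modules) (hL : PicF.IsInvertible L) (a : 𝟙_ (Over (Spec (CommRingCat.of k))) ⟶ A) :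
    Nonempty (CohB1.tensorMod ((Scheme.Modules.pullback (𝟙 A * (toUnit A ≫ a)).left).obj L)
      ((Scheme.Modules.pullback (𝟙 A * (toUnit A ≫ a)⁻¹).left).obj L) ≅ CohB1.tensorMod L L) := by
  have hL1 := PicLoc.isInvertible_pullback (𝟙 A * (toUnit A ≫ a)).left hL
  have hL2 := PicLoc.isInvertible_pullback (𝟙 A * (toUnit A ≫ a)⁻¹).left hL
  let a' : A ⟶ A := toUnit A ≫ a
  have h := W7Cube.cube_rel (PicGrp.cls L hL) (𝟙 A) a' a'⁻¹
  rw [mul_inv_cancel_right, mul_inv_cancel, W7Cube.pc_one, _root_.mul_one, W7Cube.pc_id,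
    show a'⁻¹ = toUnit A ≫ a⁻¹ by simp [a', GrpObj.comp_inv], W7Cube.pc_const, W7Cube.pc_const, _root_.mul_one,
    _root_.mul_one] at h
  have h' : PicGrp.cls _ hL1 * PicGrp.cls _ hL2 = PicGrp.cls L hL * PicGrp.cls L hL := by
    rw [h, ← W7Cube.pull_cls, ← W7Cube.pull_cls, show toUnit A ≫ a⁻¹ = a'⁻¹ by simp [a', GrpObj.comp_inv]]
    rfl
  have h3 := congrArg Subtype.val h'
  rw [PicGrp.mul_val, PicGrp.mul_val] at h3
  exact (PicGrp.cl_eq_cl_iff _ _).1 h3

/-- two translates of a nonempty open through a given point -/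
theorem exists_translates [IsAlgClosed k] (U : A.left.Opens) (hne : (U : Set A.left).Nonempty)
    (p : 𝟙_ (Over (Spec (CommRingCat.of k))) ⟶ A) :
    ∃ a : 𝟙_ (Over (Spec (CommRingCat.of k))) ⟶ A,
      (𝟙 A * (toUnit A ≫ a)).left (p.left (IsLocalRing.closedPoint k)) ∈ U ∧
      (𝟙 A * (toUnit A ≫ a)⁻¹).left (p.left (IsLocalRing.closedPoint k)) ∈ U := by
  haveI : Subsingleton (Spec (CommRingCat.of k)) := inferInstanceAs (Subsingleton (PrimeSpectrum k))
  haveI : IsIntegral A.left := GeometricallyIntegral.isIntegral_of_subsingleton A.hom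
  haveI : JacobsonSpace A.left := LocallyOfFiniteType.jacobsonSpace A.hom
  let pc' : A ⟶ A := toUnit A ≫ p
  let lp : A ⟶ A := pc' * 𝟙 A
  let lm : A ⟶ A := pc' * (𝟙 A)⁻¹
  have hc : ∀ {Z : Over (Spec (CommRingCat.of k))} (f : Z ⟶ A), f ≫ pc' = toUnit Z ≫ p := fun f => by
    simp only [pc', ← Category.assoc, comp_toUnit]
  have hlp : (pc'⁻¹ * 𝟙 A) ≫ lp = 𝟙 A := by
    rw [MonObj.comp_mul, hc, Category.comp_id, mul_inv_cancel_left]
  have hlm : ((𝟙 A)⁻¹ * pc') ≫ lm = 𝟙 A := by
    rw [MonObj.comp_mul, GrpObj.comp_inv, hc, Category.comp_id, _root_.mul_inv_rev, _root_.inv_inv,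
      mul_inv_cancel_left]
  obtain ⟨q, hq⟩ := hne
  have hne1 : (lp.left ⁻¹' (U : Set A.left)).Nonempty := ⟨(pc'⁻¹ * 𝟙 A).left q, by
    rw [Set.mem_preimage, ← Scheme.Hom.comp_apply, ← Over.comp_left, hlp]; exact hq⟩
  have hne2 : (lm.left ⁻¹' (U : Set A.left)).Nonempty := ⟨((𝟙 A)⁻¹ * pc').left q, by
    rw [Set.mem_preimage, ← Scheme.Hom.comp_apply, ← Over.comp_left, hlm]; exact hq⟩
  obtain ⟨z, hz⟩ := nonempty_preirreducible_inter (U.2.preimage lp.left.continuous)
    (U.2.preimage lm.left.continuous) hne1 hne2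
  obtain ⟨w, hw, hwc⟩ := nonempty_inter_closedPoints ⟨z, hz⟩
    ((U.2.preimage lp.left.continuous).inter (U.2.preimage lm.left.continuous)).isLocallyClosed
  obtain ⟨a, ha⟩ : ∃ a : 𝟙_ (Over (Spec (CommRingCat.of k))) ⟶ A, a.left (IsLocalRing.closedPoint k) = w :=
    ⟨Over.homMk _ ((pointEquivClosedPoint A.hom).symm ⟨w, hwc⟩).2,
      congrArg Subtype.val ((pointEquivClosedPoint A.hom).apply_symm_apply ⟨w, hwc⟩)⟩
  have h1 : p ≫ (𝟙 A * (toUnit A ≫ a)) = a ≫ lp := by
    simp [lp, pc', MonObj.comp_mul, ← Category.assoc, toUnit_unique (toUnit _) (𝟙 _)]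
  have h2 : p ≫ (𝟙 A * (toUnit A ≫ a)⁻¹) = a ≫ lm := by
    simp [lm, pc', MonObj.comp_mul, GrpObj.comp_inv, ← Category.assoc, toUnit_unique (toUnit _) (𝟙 _)]
  refine ⟨a, ?_, ?_⟩
  · rw [← Scheme.Hom.comp_apply, ← Over.comp_left, h1, Over.comp_left, Scheme.Hom.comp_apply, ha]
    exact hw.1
  · rw [← Scheme.Hom.comp_apply, ← Over.comp_left, h2, Over.comp_left, Scheme.Hom.comp_apply, ha]
    exact hw.2

omit [GeometricallyIntegral A.hom] [IsProper A.hom] in
/-- a smooth irreducible group is geometrically integral -/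
theorem geometricallyIntegral_of_irreducible [Smooth A.hom] [IrreducibleSpace A.left] :
    GeometricallyIntegral A.hom := by
  haveI : GeometricallyConnected A.hom :=
    Rigid.geometricallyConnected_of_section A.hom η[A].left (Over.w η[A])
  exact ClosedRep.GeomIntegral.geometricallyIntegral_of_smooth A.hom

/-- an ample bundle exists -/
theorem exists_affine_genLocus : ∃ (L : A.left.Modules) (s : Coh.structureModule A.left ⟶ L),
    PicF.IsInvertible L ∧ η[A].left (IsLocalRing.closedPoint k) ∈ CohB1.genLocus L s ∧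
      IsAffineOpen (CohB1.genLocus L s) := by
  haveI : Smooth A.hom := by
    haveI : GrpObj (Over.mk A.hom) := inferInstanceAs (GrpObj A)
    exact smooth_of_grpObj A.hom
  haveI : Subsingleton (Spec (CommRingCat.of k)) := inferInstanceAs (Subsingleton (PrimeSpectrum k))
  haveI : IsIntegral A.left := GeometricallyIntegral.isIntegral_of_subsingleton A.hom
  haveI : IsLocallyNoetherian A.left := LocallyOfFiniteType.isLocallyNoetherian A.hom
  haveI : CompactSpace A.left := QuasiCompact.compactSpace_of_compactSpace A.hom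
  haveI : IsNoetherian A.left := {}
  haveI : A.left.IsSeparated := ⟨by
    rw [show Limits.terminal.from A.left = A.hom ≫ Limits.terminal.from _ from Limits.terminal.hom_ext _ _]
    infer_instance⟩
  have hamp : MoreMor.HasAmpleFamily A.left := S4272.result A.left fun x => by
    haveI := SmLocalST.isRegularLocalRing_stalk_of_smooth_field A.hom x
    exact ⟨inferInstance, UFDLib.ufd_of_isRegularLocalRing _⟩
  obtain ⟨L, m, s, hL, -, hx, hU⟩ := hamp.2 (η[A].left (IsLocalRing.closedPoint k))
  exact ⟨_, s, TMul.isInvertible_tensorPow hL m, hx, hU⟩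

end Groth.Agent.AVAmple
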