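import Groth.Agent.AVAmple.Square
import Groth.Agent.W7See.Closed
import Groth.Agent.W7See.Locus
import Groth.Agent.W7See.Fibre
import Groth.Agent.W7Cube.OverField
import Groth.Agent.BMCoh.Geom
import Groth.Agent.S14809

/-!
Invariance under translations: seesaw, closedness, finiteness for ample sheaves.
-/

set_option autoImplicit false
set_option backward.isDefEq.respectTransparency false
set_option backward.isDefEq.respectTransparency.types false
set_option maxHeartbeats 1000000
set_option linter.style.haveILetI false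

universe u

open CategoryTheory CategoryTheory.Limits MonoidalCategory CartesianMonoidalCategory MonObj GrpObj AlgebraicGeometry
open TopologicalSpace

noncomputable section

namespace Groth.Agent.AVAmple

attribute [local instance] W7Cube.law

variable {k : Type u} [Field k] {A : Over (Spec (CommRingCat.of k))} [GrpObj A] [IsProper A.hom]
  [GeometricallyIntegral A.hom] {W : Over (Spec (CommRingCat.of k))}

omit [IsProper A.hom] [GeometricallyIntegral A.hom] [GrpObj A] in
/-- triviality on the fibre over a rational point -/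
theorem fiber_trivial_iff (M : (A ⊗ W).left.Modules) (b : 𝟙_ (Over (Spec (CommRingCat.of k))) ⟶ W) :
    Nonempty (CohIII.fiberMod (snd A W).left M (b.left (IsLocalRing.closedPoint k)) ≅
      Coh.structureModule ((snd A W).left.fiber (b.left (IsLocalRing.closedPoint k)))) ↔
    Nonempty ((Scheme.Modules.pullback (lift (𝟙 A) (toUnit A ≫ b)).left).obj M ≅ Coh.structureModule A.left) := by
  set f : (A ⊗ W).left ⟶ W.left := (snd A W).left
  set j : A.left ⟶ (A ⊗ W).left := (lift (𝟙 A) (toUnit A ≫ b)).left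
  let β : Spec (CommRingCat.of k) ⟶ W.left := b.left
  have hβ : β ≫ W.hom = 𝟙 _ := Over.w b
  set y := b.left (IsLocalRing.closedPoint k)
  have hjs : j ≫ f = A.hom ≫ β := by
    show (lift (𝟙 A) (toUnit A ≫ b)).left ≫ (snd A W).left = _
    rw [← Over.comp_left, lift_snd, Over.comp_left]; rfl
  constructor
  · rintro ⟨i⟩
    let φ := Spec.map (W.left.descResidueField (Scheme.stalkClosedPointTo β))
    have hφ : φ ≫ W.left.fromSpecResidueField y = β :=
      Scheme.descResidueField_stalkClosedPointTo_fromSpecResidueField (CommRingCat.of k) W.left β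
    let ψ : A.left ⟶ f.fiber y := pullback.lift j (A.hom ≫ φ) (by rw [hjs, Category.assoc, hφ])
    have hψ : ψ ≫ f.fiberι y = j := pullback.lift_fst _ _ _
    exact ⟨(Scheme.Modules.pullbackCongr hψ.symm).app M ≪≫ ((Scheme.Modules.pullbackComp ψ _).app M).symm ≪≫
      (Scheme.Modules.pullback ψ).mapIso i ≪≫ PicLoc.pullbackStructureIso ψ⟩
  · rintro ⟨i⟩
    let φ : f.fiber y ⟶ A.left := f.fiberι y ≫ (fst A W).left
    have hfib : f.fiberι y ≫ f = f.fiberToSpecResidueField y ≫ W.left.fromSpecResidueField y := f.fiber_fac y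
    have hφ : φ ≫ j = f.fiberι y := by
      have e1 : (φ ≫ j) ≫ (fst A W).left = f.fiberι y ≫ (fst A W).left := by
        show (φ ≫ (lift (𝟙 A) (toUnit A ≫ b)).left) ≫ (fst A W).left = _
        rw [Category.assoc, ← Over.comp_left, lift_fst, Over.id_left, Category.comp_id]
      have e2 : (φ ≫ j) ≫ f = f.fiberι y ≫ f := by
        rw [Category.assoc, hjs]
        have hA : φ ≫ A.hom = (f.fiberι y ≫ f) ≫ W.hom := by
          rw [Category.assoc, Category.assoc, Over.w (fst A W)]
          exact congrArg _ (Over.w (snd A W)).symm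
        rw [← Category.assoc, hA, hfib, Category.assoc, Category.assoc]
        exact congrArg (f.fiberToSpecResidueField y ≫ ·)
          (W7Cube.fromSpecResidueField_section β W.hom hβ (IsLocalRing.closedPoint k))
      exact pullback.hom_ext e1 e2
    exact ⟨(Scheme.Modules.pullbackCongr hφ.symm).app M ≪≫ ((Scheme.Modules.pullbackComp φ j).app M).symm ≪≫
      (Scheme.Modules.pullback φ).mapIso i ≪≫ PicLoc.pullbackStructureIso φ⟩

open W7Cube in
/-- the defect of additivity along `w` -/
theorem exists_family (c : PicLoc.PicSet A.left) (w : W ⟶ A) :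
    ∃ (M : (A ⊗ W).left.Modules) (_ : PicF.IsInvertible M),
      (∀ b : 𝟙_ (Over (Spec (CommRingCat.of k))) ⟶ W,
        Nonempty ((Scheme.Modules.pullback (lift (𝟙 A) (toUnit A ≫ b)).left).obj M ≅ Coh.structureModule A.left) ↔
          pc c (𝟙 A * (toUnit A ≫ b ≫ w)) = c) ∧
      Nonempty ((Scheme.Modules.pullback (lift (toUnit W ≫ η[A]) (𝟙 W)).left).obj M ≅ Coh.structureModule W.left) ∧
      (Nonempty (M ≅ Coh.structureModule (A ⊗ W).left) ↔
        pc c (fst A W * (snd A W ≫ w)) = pc c (fst A W) * pc c (snd A W ≫ w)) := by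
  obtain ⟨M, hM, e⟩ := PicGrp.exists_eq_cls
    (pc c (fst A W * (snd A W ≫ w)) * (pc c (fst A W) * pc c (snd A W ≫ w))⁻¹)
  refine ⟨M, hM, fun b => ?_, ?_, ?_⟩
  · rw [← PicGrp.cls_eq_one_iff (hL := PicLoc.isInvertible_pullback _ hM), ← pull_cls _ M hM, ← e, map_mul,
      map_inv, map_mul, pull_pc, pull_pc, pull_pc, mul_inv_eq_one]
    have h1 : lift (𝟙 A) (toUnit A ≫ b) ≫ (fst A W * (snd A W ≫ w)) = 𝟙 A * (toUnit A ≫ b ≫ w) := by
      rw [MonObj.comp_mul, lift_fst, lift_snd_assoc, Category.assoc]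
    rw [h1, lift_fst, lift_snd_assoc, Category.assoc, pc_const, _root_.mul_one, pc_id]
  · rw [← PicGrp.cls_eq_one_iff (hL := PicLoc.isInvertible_pullback _ hM), ← pull_cls _ M hM, ← e, map_mul,
      map_inv, map_mul, pull_pc, pull_pc, pull_pc, mul_inv_eq_one, MonObj.comp_mul, lift_fst, lift_snd_assoc,
      Category.id_comp, ← Hom.one_def, _root_.one_mul, pc_one, _root_.one_mul]
  · rw [← PicGrp.cls_eq_one_iff (hL := hM), ← e, mul_inv_eq_one]

omit [GrpObj A] in
theorem fibre_facts :
    IsProper (snd A W).left ∧ Flat (snd A W).left ∧ GeometricallyIntegral (snd A W).left :=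
  ⟨inferInstanceAs (IsProper (pullback.snd A.hom W.hom)), inferInstanceAs (Flat (pullback.snd A.hom W.hom)),
    inferInstanceAs (GeometricallyIntegral (pullback.snd A.hom W.hom))⟩

open W7Cube in
/-- the seesaw principle -/
theorem additive_of_invariant [LocallyOfFiniteType W.hom] [IsReduced W.left] (c : PicLoc.PicSet A.left) (w : W ⟶ A)
    (h : ∀ y : W.left, IsClosed ({y} : Set W.left) → ∃ b : 𝟙_ (Over (Spec (CommRingCat.of k))) ⟶ W,
      b.left (IsLocalRing.closedPoint k) = y ∧ pc c (𝟙 A * (toUnit A ≫ b ≫ w)) = c) :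
    pc c (fst A W * (snd A W ≫ w)) = pc c (fst A W) * pc c (snd A W ≫ w) := by
  obtain ⟨M, hM, hb, ⟨hs⟩, hiff⟩ := exists_family c w
  obtain ⟨_, _, _⟩ := fibre_facts (A := A) (W := W)
  haveI := W7See.geometricallyConnected_of_geometricallyIntegral (snd A W).left
  haveI : IsLocallyNoetherian W.left := LocallyOfFiniteType.isLocallyNoetherian W.hom
  haveI : JacobsonSpace W.left := LocallyOfFiniteType.jacobsonSpace W.hom
  refine hiff.1 ?_
  obtain ⟨-, hc⟩ := W7See.seesaw_closedPoints (snd A W).left (fun y _ => W7See.bijective_fiber _ y) M hM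
    fun y hy => by
      obtain ⟨b, rfl, hbc⟩ := h y hy
      exact (fiber_trivial_iff M b).2 ((hb b).2 hbc)
  exact W7See.nonempty_iso_unit_of_counit (snd A W).left M hc (lift (toUnit W ≫ η[A]) (𝟙 W)).left
    (by rw [← Over.comp_left, lift_snd, Over.id_left]) hs

open W7Cube in
/-- translations fixing a class form a closed set -/
theorem isClosed_invariant (c : PicLoc.PicSet A.left) :
    ∃ T : Set A.left, IsClosed T ∧ ∀ a : 𝟙_ (Over (Spec (CommRingCat.of k))) ⟶ A,
      a.left (IsLocalRing.closedPoint k) ∈ T ↔ pc c (𝟙 A * (toUnit A ≫ a)) = c := by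
  obtain ⟨M, hM, hb, -, -⟩ := exists_family c (𝟙 A)
  obtain ⟨_, _, _⟩ := fibre_facts (A := A) (W := A)
  haveI := W7See.geometricallyConnected_of_geometricallyIntegral (snd A A).left
  haveI : IsLocallyNoetherian A.left := LocallyOfFiniteType.isLocallyNoetherian A.hom
  refine ⟨_, W7See.isClosed_trivial_locus (snd A A).left (fun y => inferInstance)
    (fun y => W7See.bijective_fiber _ y) M hM, fun a => ?_⟩
  rw [Set.mem_setOf_eq, fiber_trivial_iff, hb, Category.comp_id]

section Finite

variable (A) in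
omit [GrpObj A] [GeometricallyIntegral A.hom] in
/-- a closed subset inside an affine open of a proper scheme is finite -/
theorem finite_of_subset_affine (T : Set A.left) (hT : IsClosed T) (U : A.left.Opens) (hU : IsAffineOpen U)
    (h : T ⊆ (U : Set A.left)) : T.Finite := by
  let I := Scheme.IdealSheafData.vanishingIdeal ⟨T, hT⟩
  let i := I.subschemeι
  have hrange : Set.range i = T := by
    rw [Scheme.IdealSheafData.range_subschemeι, Scheme.IdealSheafData.coe_support_vanishingIdeal]
    rfl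
  have hr : Set.range i ⊆ Set.range U.ι := by rw [Scheme.Opens.range_ι, hrange]; exact h
  haveI : IsClosedImmersion (IsOpenImmersion.lift U.ι i hr ≫ U.ι) := by
    rw [IsOpenImmersion.lift_fac]; infer_instance
  haveI := IsClosedImmersion.of_comp (IsOpenImmersion.lift U.ι i hr) U.ι
  haveI : IsAffine (U : Scheme.{u}) := hU
  haveI : IsAffine I.subscheme := isAffine_of_isAffineHom (IsOpenImmersion.lift U.ι i hr)
  haveI : IsFinite (i ≫ A.hom) := IsFinite.iff_isProper_and_isAffineHom.2 ⟨inferInstance, inferInstance⟩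
  haveI : Finite I.subscheme := by
    have h := (i ≫ A.hom).finite_preimage_singleton (IsLocalRing.closedPoint k)
    rw [show (i ≫ A.hom) ⁻¹' {IsLocalRing.closedPoint k} = Set.univ from Set.eq_univ_of_forall fun x =>
      Subsingleton.elim (α := PrimeSpectrum k) _ _] at h
    exact Set.finite_univ_iff.1 h
  exact hrange ▸ Set.finite_range _

omit [GrpObj A] [GeometricallyIntegral A.hom] in
theorem exists_point [IsAlgClosed k] {y : A.left} (hy : IsClosed ({y} : Set A.left)) :
    ∃ a : 𝟙_ (Over (Spec (CommRingCat.of k))) ⟶ A, a.left (IsLocalRing.closedPoint k) = y :=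
  ⟨Over.homMk _ ((pointEquivClosedPoint A.hom).symm ⟨y, hy⟩).2,
    congrArg Subtype.val ((pointEquivClosedPoint A.hom).apply_symm_apply ⟨y, hy⟩)⟩

omit [GrpObj A] [GeometricallyIntegral A.hom] [IsProper A.hom] in
theorem point_injective [IsAlgClosed k] [LocallyOfFiniteType A.hom] :
    Function.Injective (fun a : 𝟙_ (Over (Spec (CommRingCat.of k))) ⟶ A => a.left (IsLocalRing.closedPoint k)) := by
  intro a b h
  apply Over.OverMorphism.ext
  have h' : (pointEquivClosedPoint A.hom ⟨a.left, Over.w a⟩) = pointEquivClosedPoint A.hom ⟨b.left, Over.w b⟩ :=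
    Subtype.ext h
  exact congrArg Subtype.val ((pointEquivClosedPoint A.hom).injective h')

open W7Cube in
theorem translate_mul (c : PicLoc.PicSet A.left) (a b : 𝟙_ (Over (Spec (CommRingCat.of k))) ⟶ A) :
    pull (𝟙 A * (toUnit A ≫ b)).left (pc c (𝟙 A * (toUnit A ≫ a))) = pc c (𝟙 A * (toUnit A ≫ (b * a))) := by
  rw [pull_pc]
  congr 1
  simp [MonObj.comp_mul, ← Category.assoc, _root_.mul_assoc]

open W7Cube in
/-- an ample class is fixed by finitely many translations -/
theorem finite_fixing [IsAlgClosed k] {L : A.left.Modules} (hL : CohB1.IsAmple L) :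
    {a : 𝟙_ (Over (Spec (CommRingCat.of k))) ⟶ A |
      pc (PicGrp.cls L hL.1) (𝟙 A * (toUnit A ≫ a)) = PicGrp.cls L hL.1}.Finite := by
  haveI : Subsingleton (Spec (CommRingCat.of k)) := inferInstanceAs (Subsingleton (PrimeSpectrum k))
  haveI : IsIntegral A.left := GeometricallyIntegral.isIntegral_of_subsingleton A.hom
  haveI : IsLocallyNoetherian A.left := LocallyOfFiniteType.isLocallyNoetherian A.hom
  haveI : CompactSpace A.left := QuasiCompact.compactSpace_of_compactSpace A.hom
  haveI : AlgebraicGeometry.IsNoetherian A.left := {}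
  haveI : JacobsonSpace A.left := LocallyOfFiniteType.jacobsonSpace A.hom
  set c := PicGrp.cls L hL.1 with hc
  obtain ⟨T, hT, hTa⟩ := isClosed_invariant (A := A) c
  by_contra hinf
  obtain ⟨S, hSf, hSc, hSi, hS⟩ :
      ∃ S : Set (Set A.left), S.Finite ∧ (∀ t ∈ S, IsClosed t) ∧ (∀ t ∈ S, IsIrreducible t) ∧ T = ⋃₀ S :=
    NoetherianSpace.exists_finite_set_isClosed_irreducible hT
  obtain ⟨C₀, hC₀, p, hp, q, hq, hpq⟩ : ∃ C₀ ∈ S, ∃ p : 𝟙_ (Over (Spec (CommRingCat.of k))) ⟶ A,
      p.left (IsLocalRing.closedPoint k) ∈ C₀ ∧ ∃ q : 𝟙_ (Over (Spec (CommRingCat.of k))) ⟶ A,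
      q.left (IsLocalRing.closedPoint k) ∈ C₀ ∧ p ≠ q := by
    by_contra hcon
    push Not at hcon
    refine hinf (Set.Finite.subset (hSf.biUnion fun C hC => Set.Subsingleton.finite
      (s := {a : 𝟙_ (Over (Spec (CommRingCat.of k))) ⟶ A | a.left (IsLocalRing.closedPoint k) ∈ C})
      fun a ha b hb => hcon C hC a ha b hb) fun a ha => ?_)
    obtain ⟨C, hC, haC⟩ := hS ▸ (hTa a).2 ha
    exact Set.mem_biUnion hC haC
  have hsub : C₀ ⊆ T := hS ▸ Set.subset_sUnion_of_mem hC₀
  let τ : A ≅ A := ⟨𝟙 A * (toUnit A ≫ p⁻¹), 𝟙 A * (toUnit A ≫ p),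
    by simp [MonObj.comp_mul, ← Category.assoc, _root_.mul_assoc, GrpObj.comp_inv],
    by simp [MonObj.comp_mul, ← Category.assoc, _root_.mul_assoc, GrpObj.comp_inv]⟩
  haveI : IsIso τ.inv := Iso.isIso_inv τ
  haveI : IsIso τ.inv.left := (inferInstance : IsIso ((Over.forget _).map τ.inv))
  let C : Set A.left := τ.inv.left ⁻¹' C₀
  have hCc : IsClosed C := (hSc C₀ hC₀).preimage τ.inv.left.continuous
  have hCi : IsIrreducible C := by
    let h := τ.inv.left.homeomorph
    show IsIrreducible (h ⁻¹' C₀)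
    rw [← Homeomorph.image_symm]
    exact (hSi C₀ hC₀).image _ h.symm.continuous.continuousOn
  have hpt : ∀ a : 𝟙_ (Over (Spec (CommRingCat.of k))) ⟶ A, τ.inv.left (a.left (IsLocalRing.closedPoint k)) =
      (a * p).left (IsLocalRing.closedPoint k) := fun a => by
    rw [← Scheme.Hom.comp_apply, ← Over.comp_left]
    simp [τ, MonObj.comp_mul, ← Category.assoc, toUnit_unique (toUnit _) (𝟙 _)]
  have hinv : ∀ a : 𝟙_ (Over (Spec (CommRingCat.of k))) ⟶ A, a.left (IsLocalRing.closedPoint k) ∈ C →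
      pc c (𝟙 A * (toUnit A ≫ a)) = c := fun a ha => by
    have h1 : pc c (𝟙 A * (toUnit A ≫ (a * p))) = c := (hTa _).1 (hsub (by rw [← hpt]; exact ha))
    have h2 : pc c (𝟙 A * (toUnit A ≫ p)) = c := (hTa _).1 (hsub hp)
    rw [← translate_mul c p a, h2] at h1
    exact h1
  have he : η[A].left (IsLocalRing.closedPoint k) ∈ C := by
    show τ.inv.left _ ∈ C₀
    rw [hpt, show η[A] * p = p from _root_.one_mul p]
    exact hp
  have hq' : (q * p⁻¹).left (IsLocalRing.closedPoint k) ∈ C := by
    show τ.inv.left _ ∈ C₀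
    rw [hpt, inv_mul_cancel_right]
    exact hq
  -- restrict the class to the curve
  let I := Scheme.IdealSheafData.vanishingIdeal ⟨C, hCc⟩
  let i := I.subschemeι
  have hrange : Set.range i = C := by
    rw [Scheme.IdealSheafData.range_subschemeι, Scheme.IdealSheafData.coe_support_vanishingIdeal]
    rfl
  haveI : IrreducibleSpace I.subscheme := by
    have h0 := hCi
    rw [← hrange] at h0
    haveI := Subtype.irreducibleSpace h0
    exact i.isClosedEmbedding.isEmbedding.toHomeomorph.irreducibleSpace_iff.2 this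
  haveI : IsReduced I.subscheme := BMCoh.isReduced_vanishingIdeal_subscheme _ _
  haveI : IsIntegral I.subscheme := isIntegral_of_irreducibleSpace_of_isReduced _
  haveI : UniversallyClosed (i ≫ A.hom) := inferInstance
  let W' : Over (Spec (CommRingCat.of k)) := Over.mk (i ≫ A.hom)
  let w : W' ⟶ A := Over.homMk i
  haveI : LocallyOfFiniteType W'.hom := inferInstanceAs (LocallyOfFiniteType (i ≫ A.hom))
  haveI : IsReduced W'.left := inferInstanceAs (IsReduced I.subscheme)
  haveI : IsIntegral W'.left := inferInstanceAs (IsIntegral I.subscheme)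
  have hadd := additive_of_invariant c w fun y hy => by
    obtain ⟨b, hb⟩ : ∃ b : 𝟙_ (Over (Spec (CommRingCat.of k))) ⟶ W', b.left (IsLocalRing.closedPoint k) = y :=
      ⟨Over.homMk _ ((pointEquivClosedPoint W'.hom).symm ⟨y, hy⟩).2,
        congrArg Subtype.val ((pointEquivClosedPoint W'.hom).apply_symm_apply ⟨y, hy⟩)⟩
    refine ⟨b, hb, hinv _ ?_⟩
    rw [← hrange, Over.comp_left, Scheme.Hom.comp_apply, hb]
    exact ⟨y, rfl⟩
  have hneg := congrArg (pull (lift w⁻¹ (𝟙 W')).left) hadd
  rw [map_mul, pull_pc, pull_pc, pull_pc, MonObj.comp_mul, lift_fst, lift_snd_assoc, Category.id_comp,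
    inv_mul_cancel, pc_one] at hneg
  -- the section
  obtain ⟨m, s, hes, hU⟩ := hL.2.2 (η[A].left (IsLocalRing.closedPoint k))
  have hLm := TMul.isInvertible_tensorPow hL.1 (m + 1)
  let L₁ := (Scheme.Modules.pullback w⁻¹.left).obj (CohB1.tensorPow L (m + 1))
  let L₂ := (Scheme.Modules.pullback w.left).obj (CohB1.tensorPow L (m + 1))
  have h₁ := PicLoc.isInvertible_pullback w⁻¹.left hLm
  have h₂ := PicLoc.isInvertible_pullback w.left hLm
  obtain ⟨ρ⟩ : Nonempty (CohB1.tensorMod L₁ L₂ ≅ Coh.structureModule W'.left) := by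
    rw [← PicGrp.cls_eq_one_iff (hL := TMul.isInvertible_tensorMod h₁ h₂)]
    have hpow : PicGrp.cls _ hLm = c ^ (m + 1) := Subtype.ext (PicGrp.cls_pow_val hL.1 (m + 1)).symm
    have e1 : PicGrp.cls _ (TMul.isInvertible_tensorMod h₁ h₂) = PicGrp.cls _ h₁ * PicGrp.cls _ h₂ :=
      Subtype.ext (PicGrp.mul_val (PicGrp.cls _ h₁) (PicGrp.cls _ h₂)).symm
    rw [e1, ← pull_cls w⁻¹.left _ hLm, ← pull_cls w.left _ hLm, hpow, map_pow, map_pow, ← mul_pow]
    exact (congrArg (· ^ (m + 1)) hneg.symm).trans (one_pow _)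
  let s₁ := (PicLoc.pullbackStructureIso w⁻¹.left).symm.hom ≫ (Scheme.Modules.pullback w⁻¹.left).map s
  let s₂ := (PicLoc.pullbackStructureIso w.left).symm.hom ≫ (Scheme.Modules.pullback w.left).map s
  let t := SecTwist.tmulHom s₁ s₂ ≫ ρ.hom
  have ht : CohB1.genLocus _ t = w⁻¹.left ⁻¹ᵁ CohB1.genLocus _ s ⊓ w.left ⁻¹ᵁ CohB1.genLocus _ s :=
    (TMul.genLocus_comp _ ρ.hom).trans ((TMul.genLocus_tmulHom h₁ h₂ s₁ s₂).trans
      (congrArg₂ (· ⊓ ·) (TMul.genLocus_pullback _ hLm s _) (TMul.genLocus_pullback _ hLm s _)))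
  obtain ⟨c₁, hc₁⟩ : η[A].left (IsLocalRing.closedPoint k) ∈ Set.range i := hrange ▸ he
  have hinv_e : w⁻¹.left c₁ = η[A].left (IsLocalRing.closedPoint k) := by
    have hw : w⁻¹ = w ≫ (𝟙 A)⁻¹ := by rw [GrpObj.comp_inv, Category.comp_id]
    rw [hw, Over.comp_left, Scheme.Hom.comp_apply, show w.left c₁ = η[A].left (IsLocalRing.closedPoint k) from hc₁,
      ← Scheme.Hom.comp_apply, ← Over.comp_left, GrpObj.comp_inv, Category.comp_id,
      show (η[A])⁻¹ = η[A] from inv_one]
  have hc₁t : c₁ ∈ CohB1.genLocus _ t := ht.ge (by exact ⟨show w⁻¹.left c₁ ∈ CohB1.genLocus _ s by rw [hinv_e]; exact hes,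
      show w.left c₁ ∈ CohB1.genLocus _ s by rw [show w.left c₁ = _ from hc₁]; exact hes⟩)
  have htop := S14809.genLocus_unit_top (X := W'.left) (isField_of_universallyClosed k (i ≫ A.hom)) t hc₁t
  have hCU : C ⊆ (CohB1.genLocus _ s : Set A.left) := by
    rw [← hrange]
    rintro _ ⟨x, rfl⟩
    exact (ht.le (htop.ge (show x ∈ (⊤ : W'.left.Opens) from trivial))).2
  have hfin := finite_of_subset_affine A C hCc _ hU hCU
  have hclosed : ∀ a : 𝟙_ (Over (Spec (CommRingCat.of k))) ⟶ A,
      IsClosed ({a.left (IsLocalRing.closedPoint k)} : Set A.left) := fun a =>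
    (pointEquivClosedPoint A.hom ⟨a.left, Over.w a⟩).2
  have hone : C ⊆ {η[A].left (IsLocalRing.closedPoint k)} := by
    obtain ⟨g, hg⟩ := QuasiSober.sober hCi hCc
    have hcl : IsClosed (C ∩ closedPoints A.left) := by
      rw [← Set.biUnion_of_singleton (C ∩ closedPoints A.left)]
      exact (hfin.subset Set.inter_subset_left).isClosed_biUnion fun z hz => hz.2
    have hg' := hg.mem
    rw [← closure_inter_closedPoints hCc, hcl.closure_eq] at hg'
    have hCg : C = {g} := by rw [← hg.def]; exact hg'.2.closure_eq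
    rw [hCg] at he ⊢
    exact fun y hy => hy.trans he.symm
  refine hpq (mul_inv_eq_one.1 ?_).symm
  exact point_injective (hone hq')

end Finite

end Groth.Agent.AVAmple
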